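import Groth.Agent.Birat.LocalIso
import Groth.Agent.FpqcDescent.Specialization
import Groth.Agent.FpqcDescent.ReducedSub
import Mathlib.AlgebraicGeometry.Birational.RationalMap
import Mathlib.AlgebraicGeometry.Morphisms.OpenImmersion
import Mathlib.AlgebraicGeometry.Morphisms.Separated

/-!
# Birational morphisms at generic points
-/

set_option autoImplicit false
set_option backward.isDefEq.respectTransparency.types false

universe u

open CategoryTheory CategoryTheory.Limits AlgebraicGeometry TopologicalSpace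

namespace Groth.Agent.Birat

variable {X Y S : Scheme.{u}}

/-- generic points of components -/
def Max (X : Scheme.{u}) : Set X := {x | closure {x} ∈ irreducibleComponents ↥X}

lemma eq_of_specializes_max {x z : X} (hx : x ∈ Max X) (h : z ⤳ x) : z = x := by
  have h1 : closure ({x} : Set X) ⊆ closure {z} :=
    closure_minimal (Set.singleton_subset_iff.mpr h.mem_closure) isClosed_closure
  have h2 : closure ({z} : Set X) ⊆ closure {x} :=
    hx.2 (isIrreducible_singleton.closure) h1
  have h3 : x ⤳ z := specializes_iff_mem_closure.mpr (h2 (subset_closure rfl))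
  exact (h.antisymm h3).eq

lemma exists_max_specializes (z : X) : ∃ x ∈ Max X, x ⤳ z := by
  let Z := irreducibleComponent z
  have hZ : IsIrreducible Z := isIrreducible_irreducibleComponent
  obtain ⟨x, hx⟩ := QuasiSober.sober hZ isClosed_irreducibleComponent
  refine ⟨x, ?_, hx.specializes mem_irreducibleComponent⟩
  show closure {x} ∈ irreducibleComponents ↥X
  rw [hx.def]
  exact irreducibleComponent_mem_irreducibleComponents z

lemma dense_of_max_subset {U : Set X} (h : Max X ⊆ U) : Dense U := by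
  intro z
  obtain ⟨x, hx, hxz⟩ := exists_max_specializes z
  exact closure_mono (Set.singleton_subset_iff.mpr (h hx)) (specializes_iff_mem_closure.mp hxz)

/-- points only in the component of `x` -/
def excl (X : Scheme.{u}) (x : X) : Set X := (⋃ x' ∈ Max X \ {x}, closure ({x'} : Set X))ᶜ

lemma finite_max (hfin : (irreducibleComponents ↥X).Finite) : (Max X).Finite :=
  hfin.of_injOn (f := fun x : X => closure ({x} : Set X)) (fun _ hx => hx) (fun a ha b hb h => by
    exact eq_of_specializes_max hb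
      (specializes_iff_mem_closure.mpr (by
        have h' : closure ({a} : Set X) = closure {b} := h
        rw [h']
        exact subset_closure rfl)))

lemma isOpen_excl (hfin : (irreducibleComponents ↥X).Finite) (x : X) : IsOpen (excl X x) :=
  (((finite_max hfin).subset Set.sdiff_subset).isClosed_biUnion fun _ _ => isClosed_closure).isOpen_compl

lemma mem_excl {x : X} (hx : x ∈ Max X) : x ∈ excl X x := by
  intro h
  obtain ⟨x', hx', hmem⟩ := Set.mem_iUnion₂.mp h
  exact hx'.2 (eq_of_specializes_max hx (specializes_iff_mem_closure.mpr hmem))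

lemma disjoint_excl {x x' z : X} (hx : x ∈ Max X) (hx' : x' ∈ Max X) (h : z ∈ excl X x)
    (h' : z ∈ excl X x') : x = x' := by
  obtain ⟨m, hm, hmz⟩ := exists_max_specializes z
  have h1 : m = x := by
    by_contra hne
    exact h (Set.mem_iUnion₂.mpr ⟨m, ⟨hm, hne⟩, hmz.mem_closure⟩)
  have h2 : m = x' := by
    by_contra hne
    exact h' (Set.mem_iUnion₂.mpr ⟨m, ⟨hm, hne⟩, hmz.mem_closure⟩)
  exact h1.symm.trans h2

lemma isGermInjectiveAt_of_max [IsReduced X] (hfin : (irreducibleComponents ↥X).Finite) {x : X}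
    (hx : x ∈ Max X) : X.IsGermInjectiveAt x := by
  let U : X.Opens := ⟨excl X x, isOpen_excl hfin x⟩
  have : IrreducibleSpace U.toScheme := by
    have hclo : ∀ z ∈ U, x ⤳ z := by
      intro z hz
      obtain ⟨m, hm, hmz⟩ := exists_max_specializes z
      have : m = x := by
        by_contra hne
        exact hz (Set.mem_iUnion₂.mpr ⟨m, ⟨hm, hne⟩, hmz.mem_closure⟩)
      exact this ▸ hmz
    have : Nonempty U.toScheme := ⟨⟨x, mem_excl hx⟩⟩
    have hpre : PreirreducibleSpace U.toScheme := by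
      refine ⟨fun u v hu hv ⟨a, _, ha⟩ ⟨b, _, hb⟩ => ⟨⟨x, mem_excl hx⟩, trivial, ?_, ?_⟩⟩
      · exact ((U.ι.isOpenEmbedding.isInducing.specializes_iff (x := (⟨x, mem_excl hx⟩ : U)) (y := a)).mp
          (hclo a.1 a.2)).mem_open hu ha
      · exact ((U.ι.isOpenEmbedding.isInducing.specializes_iff (x := (⟨x, mem_excl hx⟩ : U)) (y := b)).mp
          (hclo b.1 b.2)).mem_open hv hb
    exact ⟨‹_›⟩
  have : IsIntegral U.toScheme := isIntegral_of_irreducibleSpace_of_isReduced _
  have : U.toScheme.IsGermInjectiveAt (⟨x, mem_excl hx⟩ : U) := inferInstance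
  exact (isGermInjectiveAt_iff_of_isOpenImmersion (X := U.toScheme) (Y := X) (f := U.ι)
    (x := (⟨x, mem_excl hx⟩ : U))).mpr this

/-- the fibre over the image of a generic point with isomorphic local ring is a single point -/
lemma fibre_eq (f : X ⟶ Y) {x z : X} (hiso : IsIso (f.stalkMap x)) (hxz : x ⤳ z)
    (hz : f.base z = f.base x) : z = x := by
  let R := X.presheaf.stalk z
  let k := X.residueField x
  let π : R →+* k := (X.residue x).hom.comp (X.presheaf.stalkSpecializes hxz).hom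
  have hsurj : Function.Surjective π := by
    intro t
    obtain ⟨a, rfl⟩ := X.residue_surjective x t
    obtain ⟨b, rfl⟩ := (ConcreteCategory.bijective_of_isIso (f.stalkMap x)).2 a
    refine ⟨f.stalkMap z ((eqToHom (congrArg Y.presheaf.stalk hz.symm)) b), ?_⟩
    refine congrArg (X.residue x).hom ?_
    have h := ConcreteCategory.congr_hom (Scheme.Hom.stalkSpecializes_stalkMap f x z hxz)
      ((eqToHom (congrArg Y.presheaf.stalk hz.symm)) b)
    refine h.symm.trans ?_
    show f.stalkMap x (Y.presheaf.stalkSpecializes (f.continuous.specialization_monotone hxz)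
      ((eqToHom (congrArg Y.presheaf.stalk hz.symm)) b)) = f.stalkMap x b
    congr 1
    have : ∀ (y : Y) (hy : f.base x = y) (hsp : f.base x ⤳ y),
        eqToHom (congrArg Y.presheaf.stalk hy) ≫ Y.presheaf.stalkSpecializes hsp = 𝟙 _ := by
      rintro y rfl hsp
      simp
    exact ConcreteCategory.congr_hom (this _ hz.symm _) b
  have hker : (RingHom.ker π).IsMaximal := RingHom.ker_isMaximal_of_surjective π hsurj
  have hmax : RingHom.ker π = IsLocalRing.maximalIdeal R := IsLocalRing.eq_maximalIdeal hker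
  have h1 : X.fromSpecStalk z (Spec.map (X.presheaf.stalkSpecializes hxz)
      (IsLocalRing.closedPoint (X.presheaf.stalk x))) = x := by
    rw [← Scheme.Hom.comp_apply, Scheme.SpecMap_stalkSpecializes_fromSpecStalk,
      Scheme.fromSpecStalk_closedPoint]
  have h2 : Spec.map (X.presheaf.stalkSpecializes hxz)
      (IsLocalRing.closedPoint (X.presheaf.stalk x)) = IsLocalRing.closedPoint R := by
    refine PrimeSpectrum.ext ?_
    show Ideal.comap (X.presheaf.stalkSpecializes hxz).hom
      (IsLocalRing.maximalIdeal (X.presheaf.stalk x)) = IsLocalRing.maximalIdeal R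
    rw [← hmax, ← IsLocalRing.ker_residue]
    rfl
  rw [h2, Scheme.fromSpecStalk_closedPoint] at h1
  exact h1

/-- spreading into the source of `f` -/
lemma exists_germHom_inv (f : X ⟶ Y) (hYfin : (irreducibleComponents ↥Y).Finite) {x : X}
    (hy : f.base x ∈ Max Y) (hiso : IsIso (f.stalkMap x))
    (hf : (LocallyOfFiniteType f ∧ IsReduced Y) ∨ LocallyOfFinitePresentation f) :
    Nonempty (GermHom (𝟙 Y) f (f.base x) x (inv (f.stalkMap x))) := by
  let φ' : Spec (Y.presheaf.stalk (f.base x)) ⟶ X :=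
    Spec.map (inv (f.stalkMap x)) ≫ X.fromSpecStalk x
  have h : φ' ≫ f = Y.fromSpecStalk (f.base x) ≫ 𝟙 Y := by
    simp only [φ', Category.assoc, Category.comp_id]
    rw [← Scheme.SpecMap_stalkMap_fromSpecStalk f, ← Spec.map_comp_assoc, IsIso.hom_inv_id,
      Spec.map_id, Category.id_comp]
  rcases hf with ⟨hlft, hred⟩ | hlfp
  · have := isGermInjectiveAt_of_max hYfin hy
    obtain ⟨U, hU, g, hg1, hg2⟩ := spread_out_of_isGermInjective' (𝟙 Y) f φ' h
    exact ⟨⟨U, hU, g, hg1, hg2⟩⟩
  · obtain ⟨U, hU, g, hg1, hg2⟩ := spread_out' (𝟙 Y) f φ' h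
    exact ⟨⟨U, hU, g, hg1, hg2⟩⟩

/-- a birational morphism is a local isomorphism at a generic point -/
lemma exists_nhd (f : X ⟶ Y) (hYfin : (irreducibleComponents ↥Y).Finite) {x : X}
    (hy : f.base x ∈ Max Y) (hiso : IsIso (f.stalkMap x))
    (hf : (LocallyOfFiniteType f ∧ IsReduced Y) ∨ LocallyOfFinitePresentation f) :
    ∃ U : X.Opens, x ∈ U ∧ IsOpenImmersion (U.ι ≫ f) ∧ ∀ z ∈ U, f.base z ∈ excl Y (f.base x) := by
  obtain ⟨g'⟩ := exists_germHom_inv f hYfin hy hiso hf
  have : LocallyOfFiniteType f := by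
    rcases hf with ⟨h, -⟩ | h
    · exact h
    · infer_instance
  let g : GermHom f (𝟙 Y) x (f.base x) (f.stalkMap x) :=
    { dom := ⊤
      mem := trivial
      hom := (⊤ : X.Opens).ι ≫ f
      germ := by rw [← Category.assoc, Scheme.Opens.fromSpecStalkOfMem_ι,
                    Scheme.SpecMap_stalkMap_fromSpecStalk]
      over_eq := by rw [Category.comp_id] }
  obtain ⟨U, V, hxU, -, hle, e, he, -⟩ := exists_localIso g g' (IsIso.inv_hom_id _) (IsIso.hom_inv_id _)
  let W : X.Opens := U ⊓ f ⁻¹ᵁ ⟨_, isOpen_excl hYfin (f.base x)⟩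
  refine ⟨W, ⟨hxU, mem_excl hy⟩, ?_, fun z hz => hz.2⟩
  have hWU : W ≤ U := inf_le_left
  have : W.ι ≫ f = X.homOfLE hWU ≫ e.hom ≫ V.ι := by
    rw [he]
    simp only [g, ← Category.assoc, Scheme.homOfLE_homOfLE, Scheme.homOfLE_ι]
  rw [this]
  infer_instance

/-- a birational morphism restricts to an open immersion on a dense open -/
lemma exists_dense_openImmersion (f : X ⟶ Y) (hXfin : (irreducibleComponents ↥X).Finite)
    (hYfin : (irreducibleComponents ↥Y).Finite)
    (hbij : Set.BijOn (fun x : X => f.base x) (Max X) (Max Y))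
    (hiso : ∀ x ∈ Max X, IsIso (f.stalkMap x))
    (hf : (LocallyOfFiniteType f ∧ IsReduced Y) ∨ LocallyOfFinitePresentation f) :
    ∃ U : X.Opens, Max X ⊆ U ∧ IsOpenImmersion (U.ι ≫ f) := by
  choose W hxW hW hWe using fun x : Max X => exists_nhd f hYfin (hbij.mapsTo x.2) (hiso x x.2) hf
  let U : X.Opens := ⨆ x, W x
  have hmax : Max X ⊆ U := fun x hx => Opens.mem_iSup.mpr ⟨⟨x, hx⟩, hxW _⟩
  refine ⟨U, hmax, ?_⟩
  have hle : ∀ x, W x ≤ U := fun x => le_iSup W x
  have hfac : ∀ x, (W x).ι ≫ f = X.homOfLE (hle x) ≫ U.ι ≫ f := fun x => by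
    rw [← Category.assoc, Scheme.homOfLE_ι]
  have hlocal : ∀ z : U, ∃ x, (z : X) ∈ W x := fun z => Opens.mem_iSup.mp z.2
  have hemb : Topology.IsOpenEmbedding (U.ι ≫ f).base := by
    refine .of_continuous_injective_isOpenMap (U.ι ≫ f).continuous ?_ ?_
    · rintro ⟨a, ha⟩ ⟨b, hb⟩ hab
      obtain ⟨i, hi⟩ := Opens.mem_iSup.mp ha
      obtain ⟨j, hj⟩ := Opens.mem_iSup.mp hb
      have hab' : f.base a = f.base b := hab
      have hij : (i : X) = j := hbij.injOn i.2 j.2
        (disjoint_excl (hbij.mapsTo i.2) (hbij.mapsTo j.2) (hWe i a hi) (hab' ▸ hWe j b hj))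
      obtain rfl : i = j := Subtype.ext hij
      have := ((W i).ι ≫ f).isOpenEmbedding.injective (a₁ := ⟨a, hi⟩) (a₂ := ⟨b, hj⟩) hab'
      exact Subtype.ext (congrArg Subtype.val this :)
    · intro O hO
      rw [isOpen_iff_forall_mem_open]
      rintro _ ⟨z, hz, rfl⟩
      obtain ⟨i, hi⟩ := hlocal z
      refine ⟨((W i).ι ≫ f) '' ((X.homOfLE (hle i)) ⁻¹' O), ?_, ?_, ?_⟩
      · rintro _ ⟨w, hw, rfl⟩
        refine ⟨_, hw, ?_⟩
        rw [hfac]
        rfl
      · exact ((W i).ι ≫ f).isOpenEmbedding.isOpenMap _ (hO.preimage (X.homOfLE (hle i)).continuous)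
      · refine ⟨⟨z.1, hi⟩, ?_, rfl⟩
        show X.homOfLE (hle i) ⟨z.1, hi⟩ ∈ O
        rw [homOfLE_pt]
        exact hz
  have hstalk : ∀ z : U, IsIso ((U.ι ≫ f).stalkMap z) := by
    intro z
    obtain ⟨i, hi⟩ := hlocal z
    have hz : z = X.homOfLE (hle i) ⟨z.1, hi⟩ := (homOfLE_pt (hle i) z.1 hi).symm
    rw [hz]
    have h1 : IsIso ((X.homOfLE (hle i) ≫ U.ι ≫ f).stalkMap ⟨z.1, hi⟩) := by
      have := hW i
      have := hfac i
      exact (IsOpenImmersion.iff_isIso_stalkMap.mp (this ▸ hW i)).2 _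
    erw [Scheme.Hom.stalkMap_comp] at h1
    exact @IsIso.of_isIso_comp_right _ _ _ _ _ ((U.ι ≫ f).stalkMap _)
      ((X.homOfLE (hle i)).stalkMap ⟨z.1, hi⟩) inferInstance h1
  exact IsOpenImmersion.of_isIso_stalkMap _ hemb

/-- an open immersion on an open subset gives an isomorphism onto the image -/
lemma isIso_resLE_image (f : X ⟶ Y) (U : X.Opens) [IsOpenImmersion (U.ι ≫ f)]
    (hle : U ≤ f ⁻¹ᵁ (U.ι ≫ f).opensRange) : IsIso (f.resLE (U.ι ≫ f).opensRange U hle) := by
  let V := (U.ι ≫ f).opensRange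
  let e := IsOpenImmersion.isoOfRangeEq (U.ι ≫ f) V.ι (by simp [V])
  have : f.resLE V U hle = e.hom := by
    rw [← cancel_mono V.ι, Scheme.Hom.resLE_comp_ι]
    exact (IsOpenImmersion.isoOfRangeEq_hom_fac _ _ _).symm
  rw [this]
  infer_instance

/-- birational morphisms have dense isomorphic opens, preimage exact -/
lemma exists_dense_isIso_restrict (f : X ⟶ Y) (hXfin : (irreducibleComponents ↥X).Finite)
    (hYfin : (irreducibleComponents ↥Y).Finite)
    (hbij : Set.BijOn (fun x : X => f.base x) (Max X) (Max Y))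
    (hiso : ∀ x ∈ Max X, IsIso (f.stalkMap x))
    (hf₁ : QuasiCompact f ∨ IsSeparated f)
    (hf : (LocallyOfFiniteType f ∧ IsReduced Y) ∨ LocallyOfFinitePresentation f) :
    ∃ V : Y.Opens, Dense (V : Set ↥Y) ∧ IsIso (f ∣_ V) := by
  obtain ⟨U, hmax, hU⟩ := exists_dense_openImmersion f hXfin hYfin hbij hiso hf
  let V := (U.ι ≫ f).opensRange
  have hVmax : Max Y ⊆ V := by
    intro y hy
    obtain ⟨x, hx, rfl⟩ := hbij.surjOn hy
    exact ⟨⟨x, hmax hx⟩, rfl⟩
  have hle : U ≤ f ⁻¹ᵁ V := fun z hz => ⟨⟨z, hz⟩, rfl⟩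
  -- it suffices to find a smaller `V'` with `f⁻¹ V' ⊆ U`
  suffices hsuff : ∃ V' : Y.Opens, V' ≤ V ∧ Max Y ⊆ V' ∧ f ⁻¹ᵁ V' ≤ U by
    obtain ⟨V', hV'V, hV'max, hV'U⟩ := hsuff
    refine ⟨V', dense_of_max_subset hV'max, ?_⟩
    let W := f ⁻¹ᵁ V'
    have : IsOpenImmersion (W.ι ≫ f) := by
      rw [← Scheme.homOfLE_ι X hV'U, Category.assoc]
      infer_instance
    have hr : (W.ι ≫ f).opensRange = V' := by
      refine le_antisymm ?_ ?_
      · rintro _ ⟨⟨z, hz⟩, rfl⟩; exact hz
      · intro y hy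
        obtain ⟨⟨z, hz⟩, rfl⟩ := hV'V hy
        exact ⟨⟨z, hy⟩, rfl⟩
    have hres : f ∣_ V' = f.resLE V' W le_rfl := (Scheme.Hom.resLE_eq_morphismRestrict f).symm
    rw [hres]
    have h2 := isIso_resLE_image f W (by rw [hr])
    have key : ∀ (V'' : Y.Opens) (h : W ≤ f ⁻¹ᵁ V''), V'' = V' → IsIso (f.resLE V'' W h) →
        IsIso (f.resLE V' W le_rfl) := by
      rintro V'' h rfl hi
      exact hi
    exact key _ _ hr h2
  rcases hf₁ with hqc | hsep
  · let Z : Closeds X := ⟨(U : Set X)ᶜ, U.2.isClosed_compl⟩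
    let i := (Scheme.IdealSheafData.vanishingIdeal Z).subschemeι
    have hri : Set.range i.base = (U : Set X)ᶜ := by
      rw [Scheme.IdealSheafData.range_subschemeι]
      simp [Z]
    let V' : Y.Opens := V ⊓ ⟨(closure (Set.range (i ≫ f).base))ᶜ, isClosed_closure.isOpen_compl⟩
    refine ⟨V', inf_le_left, fun y hy => ⟨hVmax hy, fun hyc => ?_⟩, fun z hz => ?_⟩
    · obtain ⟨z, hz⟩ := FpqcDescent.exists_specializes_of_mem_closure_range (i ≫ f) hyc
      obtain ⟨m, hm, hmz⟩ := exists_max_specializes (i.base z)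
      have h1 : f.base (i.base z) = y := eq_of_specializes_max hy hz
      obtain ⟨x, hx, rfl⟩ := hbij.surjOn hy
      have h2 : f.base m = f.base x := eq_of_specializes_max hy (by
        have h4 := hmz.map f.continuous
        rwa [h1] at h4)
      have hmx : m = x := hbij.injOn hm hx h2
      subst hmx
      have hzU : i.base z ∉ U := by
        have : i.base z ∈ (U : Set X)ᶜ := hri ▸ ⟨z, rfl⟩
        exact this
      refine hzU ?_
      have : i.base z = m := fibre_eq f (hiso m hm) hmz h1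
      rw [this]
      exact hmax hm
    · by_contra hzU
      exact hz.2 (subset_closure (by
        obtain ⟨w, hw⟩ := (hri.ge hzU : z ∈ Set.range i.base)
        exact ⟨w, by show f.base (i.base w) = f.base z; rw [hw]⟩))
  · refine ⟨V, le_rfl, hVmax, ?_⟩
    have hVi : IsIso (f.resLE V U hle) := isIso_resLE_image f U hle
    let s : V.toScheme ⟶ (f ⁻¹ᵁ V).toScheme := inv (f.resLE V U hle) ≫ X.homOfLE hle
    have hs : s ≫ (f ∣_ V) = 𝟙 _ := by
      rw [← Scheme.Hom.resLE_eq_morphismRestrict, Category.assoc, Scheme.Hom.map_resLE,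
        IsIso.inv_hom_id]
    have : IsSeparated (f ∣_ V) := inferInstance
    have hcl : IsClosedImmersion s := by
      have : IsClosedImmersion (s ≫ f ∣_ V) := by rw [hs]; infer_instance
      exact IsClosedImmersion.of_comp s (f ∣_ V)
    intro z hz
    by_contra hzU
    have hsc : IsClosed (Set.range s.base) := s.isClosedEmbedding.isClosed_range
    have hopen : IsOpen ((f ⁻¹ᵁ V).ι '' (Set.range s.base)ᶜ) :=
      (f ⁻¹ᵁ V).ι.isOpenEmbedding.isOpenMap _ hsc.isOpen_compl
    have hzmem : z ∈ (f ⁻¹ᵁ V).ι '' (Set.range s.base)ᶜ := by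
      refine ⟨⟨z, hz⟩, ?_, rfl⟩
      rintro ⟨v, hv⟩
      refine hzU ?_
      have : (X.homOfLE hle (inv (f.resLE V U hle) v)).1 = z := congrArg Subtype.val hv
      rw [Scheme.homOfLE_apply] at this
      exact this ▸ (inv (f.resLE V U hle) v).2
    obtain ⟨m, hm, hmz⟩ := exists_max_specializes z
    obtain ⟨⟨w, hwV⟩, hw, hwm⟩ := hmz.mem_open hopen hzmem
    have hmU : m ∈ U := hmax hm
    refine hw ⟨f.resLE V U hle ⟨m, hmU⟩, ?_⟩
    simp only [s, Scheme.Hom.comp_apply]
    rw [← Scheme.Hom.comp_apply (f.resLE V U hle), IsIso.hom_inv_id]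
    exact Subtype.ext ((Scheme.homOfLE_apply hle _).trans hwm.symm)

end Groth.Agent.Birat
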