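import Groth.Agent.Birat.Spread
import Mathlib.AlgebraicGeometry.Restrict

/-!
# Local isomorphisms from mutually inverse maps of local rings
-/

set_option autoImplicit false
set_option backward.isDefEq.respectTransparency.types false

universe u

open CategoryTheory AlgebraicGeometry TopologicalSpace

namespace Groth.Agent.Birat

variable {X Y S : Scheme.{u}} (sX : X ⟶ S) (sY : Y ⟶ S)

/-- a morphism defined on an open neighbourhood, over the base, with prescribed germ -/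
structure GermHom (x : X) (y : Y) (φ : Y.presheaf.stalk y ⟶ X.presheaf.stalk x) where
  dom : X.Opens
  mem : x ∈ dom
  hom : dom.toScheme ⟶ Y
  germ : Spec.map φ ≫ Y.fromSpecStalk y = dom.fromSpecStalkOfMem x mem ≫ hom
  over_eq : hom ≫ sY = dom.ι ≫ sX

lemma homOfLE_pt {U U' : X.Opens} (hle : U' ≤ U) (z : X) (hz : z ∈ U') :
    X.homOfLE hle (⟨z, hz⟩ : U') = (⟨z, hle hz⟩ : U) :=
  Subtype.ext (Scheme.homOfLE_apply hle _)

lemma fromSpecStalkOfMem_homOfLE {U U' : X.Opens} (hle : U' ≤ U) (x : X) (hx : x ∈ U') :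
    U'.fromSpecStalkOfMem x hx ≫ X.homOfLE hle = U.fromSpecStalkOfMem x (hle hx) := by
  rw [← cancel_mono U.ι, Category.assoc, Scheme.homOfLE_ι, Scheme.Opens.fromSpecStalkOfMem_ι,
    Scheme.Opens.fromSpecStalkOfMem_ι]

variable {sX sY} {x : X} {y : Y} {φ : Y.presheaf.stalk y ⟶ X.presheaf.stalk x}

lemma GermHom.apply_eq (g : GermHom sX sY x y φ) [IsLocalHom φ.hom] :
    g.hom.base ⟨x, g.mem⟩ = y := by
  have h := congrArg (fun k : Spec (X.presheaf.stalk x) ⟶ Y => k (IsLocalRing.closedPoint _)) g.germ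
  simp only [Scheme.Hom.comp_apply] at h
  rw [show (Spec.map φ) (IsLocalRing.closedPoint _) = IsLocalRing.closedPoint _ from
    IsLocalRing.comap_closedPoint φ.hom, Scheme.fromSpecStalk_closedPoint] at h
  have h2 : g.dom.fromSpecStalkOfMem x g.mem (IsLocalRing.closedPoint _) = ⟨x, g.mem⟩ := by
    refine Subtype.ext ?_
    rw [← Scheme.Opens.ι_apply, ← Scheme.Hom.comp_apply, Scheme.Opens.fromSpecStalkOfMem_ι,
      Scheme.fromSpecStalk_closedPoint]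
  rw [h2] at h
  exact h.symm

variable {ψ : X.presheaf.stalk x ⟶ Y.presheaf.stalk y}

/-- composite is the identity near `x` -/
lemma exists_comp_eq_id [LocallyOfFiniteType sX] [IsLocalHom φ.hom]
    (g : GermHom sX sY x y φ) (g' : GermHom sY sX y x ψ) (hψφ : ψ ≫ φ = 𝟙 _) :
    ∃ (U₂ : X.Opens) (_ : x ∈ U₂) (hle : U₂ ≤ g.dom) (k : U₂.toScheme ⟶ g'.dom.toScheme),
      k ≫ g'.dom.ι = X.homOfLE hle ≫ g.hom ∧ k ≫ g'.hom = U₂.ι := by
  let U₁ : X.Opens := g.dom.ι ''ᵁ (g.hom ⁻¹ᵁ g'.dom)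
  have hU₁ : U₁ ≤ g.dom := by
    rintro _ ⟨z, -, rfl⟩
    exact z.2
  have hx₁ : x ∈ U₁ := ⟨⟨x, g.mem⟩, show g.hom.base ⟨x, g.mem⟩ ∈ g'.dom by
    rw [g.apply_eq]; exact g'.mem, rfl⟩
  have hrange : Set.range (X.homOfLE hU₁ ≫ g.hom).base ⊆ Set.range g'.dom.ι.base := by
    rintro _ ⟨⟨z, hz⟩, rfl⟩
    obtain ⟨w, hw, hwz⟩ := id hz
    have he : X.homOfLE hU₁ (⟨z, hz⟩ : U₁) = w := (homOfLE_pt hU₁ z hz).trans (Subtype.ext hwz.symm)
    rw [Scheme.Hom.comp_apply, he]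
    exact ⟨⟨_, hw⟩, rfl⟩
  let k₁ : U₁.toScheme ⟶ g'.dom.toScheme :=
    IsOpenImmersion.lift g'.dom.ι (X.homOfLE hU₁ ≫ g.hom) hrange
  have hk₁ : k₁ ≫ g'.dom.ι = X.homOfLE hU₁ ≫ g.hom := IsOpenImmersion.lift_fac _ _ _
  have hgerm₁ : U₁.fromSpecStalkOfMem x hx₁ ≫ k₁ =
      Spec.map φ ≫ g'.dom.fromSpecStalkOfMem y g'.mem := by
    rw [← cancel_mono g'.dom.ι, Category.assoc, hk₁, Category.assoc,
      Scheme.Opens.fromSpecStalkOfMem_ι, ← Category.assoc, fromSpecStalkOfMem_homOfLE, g.germ]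
  have hover : (k₁ ≫ g'.hom) ≫ sX = U₁.ι ≫ sX := by
    rw [Category.assoc, g'.over_eq, ← Category.assoc, hk₁, Category.assoc, g.over_eq,
      Scheme.homOfLE_ι_assoc]
  have hgerm : U₁.toScheme.fromSpecStalk ⟨x, hx₁⟩ ≫ (k₁ ≫ g'.hom) =
      U₁.toScheme.fromSpecStalk ⟨x, hx₁⟩ ≫ U₁.ι := by
    have h1 : U₁.fromSpecStalkOfMem x hx₁ ≫ (k₁ ≫ g'.hom) =
        U₁.fromSpecStalkOfMem x hx₁ ≫ U₁.ι := by
      rw [← Category.assoc, hgerm₁, Category.assoc, ← g'.germ, ← Category.assoc, ← Spec.map_comp,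
        hψφ, Spec.map_id, Category.id_comp, Scheme.Opens.fromSpecStalkOfMem_ι]
    simp only [Scheme.Opens.fromSpecStalkOfMem, Category.assoc] at h1
    exact (cancel_epi _).mp h1
  obtain ⟨W, hxW, hW⟩ := RatMapLib.exists_eq_of_fromSpecStalk_comp_eq sX (k₁ ≫ g'.hom) U₁.ι hover hgerm
  let U₂ : X.Opens := U₁.ι ''ᵁ W
  have hU₂ : U₂ ≤ U₁ := by
    rintro _ ⟨z, -, rfl⟩
    exact z.2
  refine ⟨U₂, ⟨⟨x, hx₁⟩, hxW, rfl⟩, hU₂.trans hU₁, X.homOfLE hU₂ ≫ k₁, ?_, ?_⟩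
  · rw [Category.assoc, hk₁, ← Category.assoc, Scheme.homOfLE_homOfLE]
  · let i := U₁.ι.isoImage W
    have hi : i.inv ≫ W.ι = X.homOfLE hU₂ := by
      rw [← cancel_mono U₁.ι, Category.assoc, Scheme.homOfLE_ι]
      exact Scheme.Hom.isoImage_inv_ι U₁.ι W
    rw [← hi, Category.assoc, Category.assoc, hW, ← Category.assoc, hi, Scheme.homOfLE_ι]

/-- mutually inverse germs give isomorphic neighbourhoods -/
lemma exists_localIso [LocallyOfFiniteType sX] [LocallyOfFiniteType sY]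
    (g : GermHom sX sY x y φ) (g' : GermHom sY sX y x ψ) (hψφ : ψ ≫ φ = 𝟙 _) (hφψ : φ ≫ ψ = 𝟙 _) :
    ∃ (U : X.Opens) (V : Y.Opens) (_ : x ∈ U) (_ : y ∈ V) (hle : U ≤ g.dom) (e : U.toScheme ≅ V.toScheme),
      e.hom ≫ V.ι = X.homOfLE hle ≫ g.hom ∧ e.hom ≫ V.ι ≫ sY = U.ι ≫ sX := by
  have : IsIso φ := ⟨ψ, hφψ, hψφ⟩
  have : IsIso ψ := ⟨φ, hψφ, hφψ⟩
  obtain ⟨U₂, hxU₂, hleU, k, hk, hkid⟩ := exists_comp_eq_id g g' hψφ
  obtain ⟨V₂, hyV₂, hleV, k', hk', hk'id⟩ := exists_comp_eq_id g' g hφψ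
  have hgU : ∀ z : U₂, g'.dom.ι (k z) = g.hom (X.homOfLE hleU z) := fun z => by
    rw [← Scheme.Hom.comp_apply, hk]; rfl
  have hg'V : ∀ z : V₂, g.dom.ι (k' z) = g'.hom (Y.homOfLE hleV z) := fun z => by
    rw [← Scheme.Hom.comp_apply, hk']; rfl
  let O : Set X := U₂.ι '' {z | g'.dom.ι (k z) ∈ V₂}
  let O' : Set Y := V₂.ι '' {z | g.dom.ι (k' z) ∈ U₂}
  have hO : IsOpen O := U₂.ι.isOpenEmbedding.isOpenMap _
    (V₂.2.preimage (g'.dom.ι.continuous.comp k.continuous))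
  have hO' : IsOpen O' := V₂.ι.isOpenEmbedding.isOpenMap _
    (U₂.2.preimage (g.dom.ι.continuous.comp k'.continuous))
  let U : X.Opens := ⟨O, hO⟩
  let V : Y.Opens := ⟨O', hO'⟩
  have hUU₂ : U ≤ U₂ := by rintro _ ⟨z, -, rfl⟩; exact z.2
  have hVV₂ : V ≤ V₂ := by rintro _ ⟨z, -, rfl⟩; exact z.2
  have hk0 : g'.dom.ι (k ⟨x, hxU₂⟩) = y := by
    rw [hgU, homOfLE_pt]
    exact g.apply_eq
  have hk'0 : g.dom.ι (k' ⟨y, hyV₂⟩) = x := by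
    rw [hg'V, homOfLE_pt]
    exact g'.apply_eq
  have hinv : ∀ z : U₂, g'.hom (k z) = U₂.ι z := fun z => by
    rw [← Scheme.Hom.comp_apply, hkid]
  have hinv' : ∀ z : V₂, g.hom (k' z) = V₂.ι z := fun z => by
    rw [← Scheme.Hom.comp_apply, hk'id]
  have hmap : Set.range (X.homOfLE (hUU₂.trans hleU) ≫ g.hom).base ⊆ Set.range V.ι.base := by
    rintro _ ⟨⟨_, ⟨z, hz, rfl⟩⟩, rfl⟩
    refine ⟨⟨g'.dom.ι (k z), ⟨⟨_, hz⟩, ?_, rfl⟩⟩, ?_⟩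
    swap
    · rw [Scheme.Hom.comp_apply, homOfLE_pt]
      exact (hgU z).trans (congrArg g.hom (homOfLE_pt hleU z.1 z.2))
    show g.dom.ι (k' ⟨g'.dom.ι (k z), hz⟩) ∈ U₂
    rw [hg'V]
    have : Y.homOfLE hleV (⟨g'.dom.ι (k z), hz⟩ : V₂) = k z := (homOfLE_pt _ _ _).trans (Subtype.ext rfl)
    rw [this, hinv]
    exact z.2
  have hmap' : Set.range (Y.homOfLE (hVV₂.trans hleV) ≫ g'.hom).base ⊆ Set.range U.ι.base := by
    rintro _ ⟨⟨_, ⟨z, hz, rfl⟩⟩, rfl⟩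
    refine ⟨⟨g.dom.ι (k' z), ⟨⟨_, hz⟩, ?_, rfl⟩⟩, ?_⟩
    swap
    · rw [Scheme.Hom.comp_apply, homOfLE_pt]
      exact (hg'V z).trans (congrArg g'.hom (homOfLE_pt hleV z.1 z.2))
    show g'.dom.ι (k ⟨g.dom.ι (k' z), hz⟩) ∈ V₂
    rw [hgU]
    have : X.homOfLE hleU (⟨g.dom.ι (k' z), hz⟩ : U₂) = k' z := (homOfLE_pt _ _ _).trans (Subtype.ext rfl)
    rw [this, hinv']
    exact z.2
  let a : U.toScheme ⟶ V.toScheme := IsOpenImmersion.lift V.ι _ hmap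
  let b : V.toScheme ⟶ U.toScheme := IsOpenImmersion.lift U.ι _ hmap'
  have ha : a ≫ V.ι = X.homOfLE (hUU₂.trans hleU) ≫ g.hom := IsOpenImmersion.lift_fac _ _ _
  have hb : b ≫ U.ι = Y.homOfLE (hVV₂.trans hleV) ≫ g'.hom := IsOpenImmersion.lift_fac _ _ _
  have ha' : a ≫ Y.homOfLE (hVV₂.trans hleV) = X.homOfLE hUU₂ ≫ k := by
    rw [← cancel_mono g'.dom.ι, Category.assoc, Scheme.homOfLE_ι, ha, Category.assoc, hk,
      ← Category.assoc, Scheme.homOfLE_homOfLE]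
  have hb' : b ≫ X.homOfLE (hUU₂.trans hleU) = Y.homOfLE hVV₂ ≫ k' := by
    rw [← cancel_mono g.dom.ι, Category.assoc, Scheme.homOfLE_ι, hb, Category.assoc, hk',
      ← Category.assoc, Scheme.homOfLE_homOfLE]
  refine ⟨U, V, ⟨⟨x, hxU₂⟩, show g'.dom.ι (k ⟨x, hxU₂⟩) ∈ V₂ by rw [hk0]; exact hyV₂, rfl⟩,
    ⟨⟨y, hyV₂⟩, show g.dom.ι (k' ⟨y, hyV₂⟩) ∈ U₂ by rw [hk'0]; exact hxU₂, rfl⟩,
    hUU₂.trans hleU, ⟨a, b, ?_, ?_⟩, ha, ?_⟩
  · rw [← cancel_mono U.ι, Category.assoc, hb, ← Category.assoc, ha', Category.assoc, hkid,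
      Scheme.homOfLE_ι, Category.id_comp]
  · rw [← cancel_mono V.ι, Category.assoc, ha, ← Category.assoc, hb', Category.assoc, hk'id,
      Scheme.homOfLE_ι, Category.id_comp]
  · rw [← Category.assoc, ha, Category.assoc, g.over_eq, Scheme.homOfLE_ι_assoc]

end Groth.Agent.Birat
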