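import Groth.Agent.Birat.Generic
import Groth.Agent.FlatMorLib.SpecStalk
import Mathlib.AlgebraicGeometry.Birational.Birational
import Mathlib.AlgebraicGeometry.FunctionField
import Mathlib.AlgebraicGeometry.ResidueField

/-!
# Birationality over a base and local rings at generic points
-/

set_option autoImplicit false
set_option backward.isDefEq.respectTransparency.types false

universe u

open CategoryTheory CategoryTheory.Limits AlgebraicGeometry TopologicalSpace

namespace Groth.Agent.Birat

variable {X Y S : Scheme.{u}} {sX : X ⟶ S} {sY : Y ⟶ S}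

lemma eqToHom_stalk {T : Scheme.{u}} {a b : T} (h : a = b) :
    eqToHom (congrArg T.presheaf.stalk h) =
      T.presheaf.stalkSpecializes (Inseparable.of_eq h.symm).specializes := by
  subst h
  simp

/-- two open immersions with a common source identify local rings over the base -/
lemma exists_stalkIso {W : Scheme.{u}} (i : W ⟶ X) (j : W ⟶ Y) [IsOpenImmersion i]
    [IsOpenImmersion j] (h : i ≫ sX = j ≫ sY) (u : W) (x : X) (y : Y) (hi : i.base u = x)
    (hj : j.base u = y) :
    ∃ (hs : sX.base x = sY.base y) (e : X.presheaf.stalk x ≅ Y.presheaf.stalk y),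
      sX.stalkMap x ≫ e.hom = eqToHom (congrArg S.presheaf.stalk hs) ≫ sY.stalkMap y := by
  subst hi hj
  have hs : sX.base (i.base u) = sY.base (j.base u) := congrArg (fun k : W ⟶ S => k.base u) h
  refine ⟨hs, asIso (i.stalkMap u) ≪≫ (asIso (j.stalkMap u)).symm, ?_⟩
  have h1 := Scheme.Hom.stalkMap_congr_hom _ _ h u
  rw [Scheme.Hom.stalkMap_comp, Scheme.Hom.stalkMap_comp] at h1
  simp only [Iso.trans_hom, Iso.symm_hom, asIso_hom, asIso_inv]
  rw [← Category.assoc, IsIso.comp_inv_eq, Category.assoc, eqToHom_stalk hs]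
  exact h1

lemma birationalOver_of_germHoms [IrreducibleSpace X] [IrreducibleSpace Y]
    [LocallyOfFiniteType sX] [LocallyOfFiniteType sY] {x : X} {y : Y}
    {φ : Y.presheaf.stalk y ⟶ X.presheaf.stalk x} {ψ : X.presheaf.stalk x ⟶ Y.presheaf.stalk y}
    (g : GermHom sX sY x y φ) (g' : GermHom sY sX y x ψ) (h1 : ψ ≫ φ = 𝟙 _) (h2 : φ ≫ ψ = 𝟙 _) :
    Scheme.BirationalOver sX sY := by
  obtain ⟨U, V, hx, hy, -, e, -, he⟩ := exists_localIso g g' h1 h2
  exact ⟨⟨U, U.2.dense ⟨x, hx⟩, V, V.2.dense ⟨y, hy⟩, e⟩, he⟩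

lemma exists_stalkIso_of_birationalOver [IrreducibleSpace X] [IrreducibleSpace Y]
    (h : Scheme.BirationalOver sX sY) :
    ∃ (hs : sX.base (genericPoint ↥X) = sY.base (genericPoint ↥Y))
      (e : X.presheaf.stalk (genericPoint ↥X) ≅ Y.presheaf.stalk (genericPoint ↥Y)),
      sX.stalkMap (genericPoint ↥X) ≫ e.hom =
        eqToHom (congrArg S.presheaf.stalk hs) ≫ sY.stalkMap (genericPoint ↥Y) := by
  obtain ⟨f, hf⟩ := h
  have hne : (f.source : Set X).Nonempty := f.dense_source.nonempty
  have : Nonempty f.source.toScheme := ⟨⟨_, hne.choose_spec⟩⟩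
  have : IrreducibleSpace f.source.toScheme :=
    f.source.ι.isOpenEmbedding.irreducibleSpace
  let j : f.source.toScheme ⟶ Y := f.iso.hom ≫ f.target.ι
  exact exists_stalkIso f.source.ι j (by rw [Category.assoc]; exact Eq.symm hf)
    (genericPoint f.source.toScheme) _ _ (genericPoint_eq_of_isOpenImmersion f.source.ι)
    (genericPoint_eq_of_isOpenImmersion j)

lemma germHom_of_lfp [LocallyOfFinitePresentation sY] {x : X} {y : Y}
    (hs : sX.base x = sY.base y) (φ : Y.presheaf.stalk y ⟶ X.presheaf.stalk x)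
    (h : sY.stalkMap y ≫ φ =
      S.presheaf.stalkSpecializes (Inseparable.of_eq hs).specializes ≫ sX.stalkMap x) :
    Nonempty (GermHom sX sY x y φ) := by
  obtain ⟨U, hU, g, h1, h2⟩ := spread_out sX sY hs φ h
  exact ⟨⟨U, hU, g, h1, h2⟩⟩

lemma germHom_of_germInjective [LocallyOfFiniteType sY] {x : X} [X.IsGermInjectiveAt x] {y : Y}
    (hs : sX.base x = sY.base y) (φ : Y.presheaf.stalk y ⟶ X.presheaf.stalk x)
    (h : sY.stalkMap y ≫ φ =
      S.presheaf.stalkSpecializes (Inseparable.of_eq hs).specializes ≫ sX.stalkMap x) :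
    Nonempty (GermHom sX sY x y φ) := by
  obtain ⟨U, hU, g, h1, h2⟩ := spread_out_of_isGermInjective sX sY hs φ h
  exact ⟨⟨U, hU, g, h1, h2⟩⟩

lemma compat_inv {x : X} {y : Y} (hs : sX.base x = sY.base y)
    (e : X.presheaf.stalk x ≅ Y.presheaf.stalk y)
    (h : sX.stalkMap x ≫ e.hom = eqToHom (congrArg S.presheaf.stalk hs) ≫ sY.stalkMap y) :
    sY.stalkMap y ≫ e.inv =
        S.presheaf.stalkSpecializes (Inseparable.of_eq hs).specializes ≫ sX.stalkMap x ∧
    sX.stalkMap x ≫ e.hom =
        S.presheaf.stalkSpecializes (Inseparable.of_eq hs.symm).specializes ≫ sY.stalkMap y := by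
  refine ⟨?_, by rw [h, eqToHom_stalk hs]⟩
  rw [← eqToHom_stalk hs.symm, Iso.comp_inv_eq, Category.assoc, h, eqToHom_trans_assoc,
    eqToHom_refl, Category.id_comp]

lemma birationalOver_of_stalkIso [IrreducibleSpace X] [IrreducibleSpace Y]
    [LocallyOfFinitePresentation sX] [LocallyOfFinitePresentation sY] {x : X} {y : Y}
    (hs : sX.base x = sY.base y) (e : X.presheaf.stalk x ≅ Y.presheaf.stalk y)
    (h : sX.stalkMap x ≫ e.hom = eqToHom (congrArg S.presheaf.stalk hs) ≫ sY.stalkMap y) :
    Scheme.BirationalOver sX sY := by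
  obtain ⟨h1, h2⟩ := compat_inv hs e h
  obtain ⟨g⟩ := germHom_of_lfp (sX := sX) (sY := sY) hs e.inv h1
  obtain ⟨g'⟩ := germHom_of_lfp (sX := sY) (sY := sX) hs.symm e.hom h2
  exact birationalOver_of_germHoms g g' e.hom_inv_id e.inv_hom_id

lemma birationalOver_of_stalkIso_integral [IsIntegral X] [IsIntegral Y]
    [LocallyOfFiniteType sX] [LocallyOfFiniteType sY] {x : X} {y : Y}
    (hs : sX.base x = sY.base y) (e : X.presheaf.stalk x ≅ Y.presheaf.stalk y)
    (h : sX.stalkMap x ≫ e.hom = eqToHom (congrArg S.presheaf.stalk hs) ≫ sY.stalkMap y) :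
    Scheme.BirationalOver sX sY := by
  obtain ⟨h1, h2⟩ := compat_inv hs e h
  obtain ⟨g⟩ := germHom_of_germInjective (sX := sX) (sY := sY) hs e.inv h1
  obtain ⟨g'⟩ := germHom_of_germInjective (sX := sY) (sY := sX) hs.symm e.hom h2
  exact birationalOver_of_germHoms g g' e.hom_inv_id e.inv_hom_id

lemma isIso_residue_genericPoint (Z : Scheme.{u}) [IsIntegral Z] :
    IsIso (Z.residue (genericPoint ↥Z)) := by
  rw [ConcreteCategory.isIso_iff_bijective]
  exact ⟨RingHom.injective ((Z.residue (genericPoint ↥Z)).hom : Z.functionField →+* _),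
    Z.residue_surjective _⟩

lemma residue_compat_iff [IsIntegral X] [IsIntegral Y]
    (hs : sX.base (genericPoint ↥X) = sY.base (genericPoint ↥Y))
    (e : X.presheaf.stalk (genericPoint ↥X) ≅ Y.presheaf.stalk (genericPoint ↥Y))
    (e' : X.residueField (genericPoint ↥X) ≅ Y.residueField (genericPoint ↥Y))
    (he : X.residue _ ≫ e'.hom = e.hom ≫ Y.residue _) :
    sX.stalkMap (genericPoint ↥X) ≫ e.hom =
        eqToHom (congrArg S.presheaf.stalk hs) ≫ sY.stalkMap (genericPoint ↥Y) ↔
      sX.residueFieldMap (genericPoint ↥X) ≫ e'.hom =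
        eqToHom (congrArg S.residueField hs) ≫ sY.residueFieldMap (genericPoint ↥Y) := by
  have hY := isIso_residue_genericPoint Y
  have key : ∀ (a b : S) (hab : a = b), S.residue a ≫ eqToHom (congrArg S.residueField hab) =
      eqToHom (congrArg S.presheaf.stalk hab) ≫ S.residue b := by
    rintro a b rfl
    simp
  rw [← cancel_mono (Y.residue (genericPoint ↥Y)), Category.assoc, Category.assoc, ← he,
    ← Scheme.residue_residueFieldMap, ← Category.assoc, ← Scheme.residue_residueFieldMap,
    ← Category.assoc (eqToHom _), ← key _ _ hs, Category.assoc, Category.assoc]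
  exact cancel_epi _

lemma isIso_pullback_snd_fromSpecStalk (f : X ⟶ Y)
    (hbij : Set.BijOn (fun x : X => f.base x) (Max X) (Max Y))
    (hiso : ∀ x ∈ Max X, IsIso (f.stalkMap x)) {y : Y} (hy : y ∈ Max Y) :
    IsIso (pullback.snd f (Y.fromSpecStalk y)) := by
  obtain ⟨x, hx, rfl⟩ := hbij.surjOn hy
  let g := Y.fromSpecStalk (f.base x)
  let p := pullback.fst f g
  let q := pullback.snd f g
  have := FlatMorLib.flat_fromSpecStalk (f.base x)
  have : Flat p := MorphismProperty.pullback_fst _ _ inferInstance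
  have hp : IsPreimmersion p := MorphismProperty.pullback_fst _ _ inferInstance
  have hgr : ∀ s, g.base s = f.base x := fun s => by
    have : g.base s ∈ Set.range g.base := ⟨s, rfl⟩
    rw [Scheme.range_fromSpecStalk] at this
    exact eq_of_specializes_max hy this
  have hpt : ∀ z, p.base z = x := by
    intro z
    have h1 : f.base (p.base z) = f.base x := by
      rw [← Scheme.Hom.comp_apply, pullback.condition, Scheme.Hom.comp_apply]
      exact hgr _
    obtain ⟨m, hm, hmz⟩ := exists_max_specializes (p.base z)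
    have h2 : f.base m = f.base x := eq_of_specializes_max hy (by
      have h4 := hmz.map f.continuous
      rwa [h1] at h4)
    obtain rfl : m = x := hbij.injOn hm hx h2
    exact fibre_eq f (hiso m hm) hmz h1
  have hsub : Subsingleton ↥(pullback f g) :=
    ⟨fun a b => p.isEmbedding.injective ((hpt a).trans (hpt b).symm)⟩
  have hsubS : Subsingleton ↥(Spec (Y.presheaf.stalk (f.base x))) :=
    ⟨fun a b => g.isEmbedding.injective ((hgr a).trans (hgr b).symm)⟩
  obtain ⟨z₀, -⟩ := (Scheme.Pullback.range_fst f g).ge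
    (show x ∈ f.base ⁻¹' Set.range g.base from ⟨IsLocalRing.closedPoint _, hgr _⟩)
  have hemb : Topology.IsOpenEmbedding q.base := by
    refine .of_continuous_injective_isOpenMap q.continuous
      (fun a b _ => Subsingleton.elim a b) fun O hO => ?_
    have : Nonempty ↥(pullback f g) := ⟨z₀⟩
    by_cases hne : O.Nonempty
    · have : q.base '' O = Set.univ :=
        Set.eq_univ_of_forall fun s => ⟨hne.choose, hne.choose_spec, Subsingleton.elim _ _⟩
      rw [this]
      exact isOpen_univ
    · rw [Set.not_nonempty_iff_eq_empty.mp hne, Set.image_empty]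
      exact isOpen_empty
  have hst : ∀ z, IsIso (q.stalkMap z) := by
    intro z
    have hpi : IsIso (p.stalkMap z) := (ConcreteCategory.isIso_iff_bijective _).mpr
      (FlatMorLib.bijective_stalkMap_of_flat_preimmersion p z)
    have hgi : IsIso (g.stalkMap (q.base z)) := (ConcreteCategory.isIso_iff_bijective _).mpr
      (FlatMorLib.bijective_stalkMap_of_flat_preimmersion g _)
    have hfi : IsIso (f.stalkMap (p.base z)) := by
      have : ∀ w, w = x → IsIso (f.stalkMap w) := by rintro w rfl; exact hiso _ hx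
      exact this _ (hpt z)
    have h := Scheme.Hom.stalkMap_congr_hom _ _ (pullback.condition : p ≫ f = q ≫ g) z
    rw [Scheme.Hom.stalkMap_comp, Scheme.Hom.stalkMap_comp] at h
    have h2 : IsIso (g.stalkMap (q.base z) ≫ q.stalkMap z) := by
      have h3 : IsIso (f.stalkMap (p.base z) ≫ p.stalkMap z) := inferInstance
      rw [h] at h3
      exact @IsIso.of_isIso_comp_left _ _ _ _ _ _ _ inferInstance h3
    exact IsIso.of_isIso_comp_left (g.stalkMap (q.base z)) (q.stalkMap z)
  have : IsOpenImmersion q := IsOpenImmersion.of_isIso_stalkMap q hemb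
  have : Surjective q := ⟨fun s => ⟨z₀, Subsingleton.elim _ _⟩⟩
  show IsIso q
  exact (isIso_iff_isOpenImmersion_and_surjective q).mpr ⟨inferInstance, inferInstance⟩

end Groth.Agent.Birat
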