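import Mathlib.AlgebraicGeometry.SpreadingOut
import Mathlib.AlgebraicGeometry.Morphisms.FinitePresentation
import Groth.Agent.RatMapLib.Unique

/-!
# Spreading out maps of local rings into a locally finitely presented scheme
-/

set_option autoImplicit false
set_option backward.isDefEq.respectTransparency.types false

universe u

open CategoryTheory AlgebraicGeometry TopologicalSpace

namespace Groth.Agent.Birat

variable {X Y S : Scheme.{u}} {R A : CommRingCat.{u}}

lemma exists_lift_of_finitePresentation {x : X} {U : X.Opens} (hxU : x ∈ U)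
    (φ : A ⟶ X.presheaf.stalk x) (φRA : R ⟶ A) (φRX : R ⟶ Γ(X, U))
    (hφRA : RingHom.FinitePresentation φRA.hom)
    (e : φRA ≫ φ = φRX ≫ X.presheaf.germ U x hxU) :
    ∃ (V : X.Opens) (hxV : x ∈ V) (φ' : A ⟶ Γ(X, V)) (i : V ≤ U), IsAffineOpen V ∧
      φ = φ' ≫ X.presheaf.germ V x hxV ∧ φRX ≫ X.presheaf.map i.hom.op = φRA ≫ φ' := by
  classical
  algebraize [φRA.hom]
  obtain ⟨n, π, hπ, s, hs⟩ := Algebra.FinitePresentation.out (R := R) (A := A)
  choose W hxW w hw using fun i : Fin n => X.presheaf.exists_germ_eq (φ (π (MvPolynomial.X i)))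
  let W₀ : X.Opens := ⟨⋂ i, (W i : Set X), isOpen_iInter_of_finite fun i => (W i).2⟩ ⊓ U
  have hxW₀ : x ∈ W₀ := ⟨Set.mem_iInter.2 hxW, hxU⟩
  have hW₀U : W₀ ≤ U := inf_le_right
  have hW₀W : ∀ i, W₀ ≤ W i := fun i z hz => Set.mem_iInter.1 hz.1 i
  let ev : MvPolynomial (Fin n) R →+* Γ(X, W₀) :=
    MvPolynomial.eval₂Hom (φRX ≫ X.presheaf.map (homOfLE hW₀U).op).hom
      (fun i => X.presheaf.map (homOfLE (hW₀W i)).op (w i))
  have hev : ∀ z, X.presheaf.germ W₀ x hxW₀ (ev z) = φ (π z) := by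
    intro z
    have : (X.presheaf.germ W₀ x hxW₀).hom.comp ev = φ.hom.comp π.toRingHom := by
      refine MvPolynomial.ringHom_ext (fun r => ?_) (fun i => ?_)
      · simp only [ev, RingHom.comp_apply, MvPolynomial.eval₂Hom_C]
        refine (X.presheaf.germ_res_apply _ _ _ _).trans ?_
        refine (ConcreteCategory.congr_hom e r).symm.trans ?_
        exact congrArg φ.hom (π.commutes r).symm
      · simp only [ev, RingHom.comp_apply, MvPolynomial.eval₂Hom_X']
        exact (X.presheaf.germ_res_apply _ _ _ _).trans (hw i)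
    exact RingHom.congr_fun this z
  have hzero : ∀ z ∈ s, ∃ (O : X.Opens) (_ : x ∈ O) (i : O ≤ W₀),
      X.presheaf.map (homOfLE i).op (ev z) = 0 := by
    intro z hz
    have hz0 : π z = 0 := by
      have : z ∈ RingHom.ker π.toRingHom := hs ▸ Ideal.subset_span hz
      exact this
    obtain ⟨O, hxO, i₁, i₂, he⟩ := X.presheaf.germ_eq x hxW₀ hxW₀ (ev z) 0
      (by rw [hev, hz0, map_zero, map_zero])
    exact ⟨O, hxO, i₁.le, he.trans (map_zero _)⟩
  choose O hxO hOle hO0 using hzero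
  let W₁ : X.Opens := ⟨⋂ z : s, (O z.1 z.2 : Set X), isOpen_iInter_of_finite fun z => (O z.1 z.2).2⟩ ⊓ W₀
  obtain ⟨V, hV, hxV, hVW⟩ := exists_isAffineOpen_mem_and_subset (x := x) (U := W₁)
    ⟨Set.mem_iInter.2 fun z => hxO z.1 z.2, hxW₀⟩
  have hVW₀ : V ≤ W₀ := fun z hz => (hVW hz).2
  let evV : MvPolynomial (Fin n) R →+* Γ(X, V) := (X.presheaf.map (homOfLE hVW₀).op).hom.comp ev
  have hker : RingHom.ker π.toRingHom ≤ RingHom.ker evV := by
    rw [← hs, Ideal.span_le]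
    intro z hz
    have hle : V ≤ O z hz := fun t ht => Set.mem_iInter.1 (hVW ht).1 ⟨z, hz⟩
    have h0 := congrArg (X.presheaf.map (homOfLE hle).op) (hO0 z hz)
    rw [map_zero, ← ConcreteCategory.comp_apply, ← Functor.map_comp, ← op_comp, homOfLE_comp] at h0
    exact h0
  let φ'h : A →+* Γ(X, V) := (π.toRingHom.liftOfSurjective hπ ⟨evV, hker⟩)
  have hφ' : ∀ z, φ'h (π z) = evV z := fun z =>
    RingHom.congr_fun (π.toRingHom.liftOfRightInverse_comp _ (Function.rightInverse_surjInv hπ)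
      ⟨evV, hker⟩) z
  refine ⟨V, hxV, CommRingCat.ofHom φ'h, hVW₀.trans hW₀U, hV, ?_, ?_⟩
  · ext a
    obtain ⟨z, rfl⟩ := hπ a
    show φ.hom (π z) = X.presheaf.germ V x hxV (φ'h (π z))
    rw [hφ', ← hev]
    exact (X.presheaf.germ_res_apply (homOfLE hVW₀) x hxV (ev z)).symm
  · ext r
    show X.presheaf.map _ (φRX r) = φ'h (φRA r)
    rw [show φRA r = π (MvPolynomial.C r) from (π.commutes r).symm, hφ']
    simp only [evV, ev, RingHom.comp_apply, MvPolynomial.eval₂Hom_C, CommRingCat.hom_comp]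
    refine (TopCat.Presheaf.restrict_restrict ?_ ?_ (φRX r)).symm

/-- spreading out into a locally finitely presented scheme -/
lemma spread_out (sX : X ⟶ S) (sY : Y ⟶ S) [LocallyOfFinitePresentation sY] {x : X} {y : Y}
    (e : sX x = sY y) (φ : Y.presheaf.stalk y ⟶ X.presheaf.stalk x)
    (h : sY.stalkMap y ≫ φ =
      S.presheaf.stalkSpecializes (Inseparable.of_eq e).specializes ≫ sX.stalkMap x) :
    ∃ (U : X.Opens) (hxU : x ∈ U) (f : U.toScheme ⟶ Y),
      Spec.map φ ≫ Y.fromSpecStalk y = U.fromSpecStalkOfMem x hxU ≫ f ∧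
      f ≫ sY = U.ι ≫ sX := by
  obtain ⟨_, ⟨U, hU, rfl⟩, hxU, -⟩ :=
    S.isBasis_affineOpens.exists_subset_of_mem_open (Set.mem_univ (sX x)) isOpen_univ
  have hyU : sY y ∈ U := e ▸ hxU
  obtain ⟨_, ⟨V : Y.Opens, hV, rfl⟩, hyV, iVU⟩ :=
    Y.isBasis_affineOpens.exists_subset_of_mem_open hyU (sY ⁻¹ᵁ U).2
  have : sY.appLE U V iVU ≫ Y.presheaf.germ V y hyV ≫ φ =
      sX.app U ≫ X.presheaf.germ (sX ⁻¹ᵁ U) x hxU := by
    rw [Scheme.Hom.appLE, Category.assoc, Y.presheaf.germ_res_assoc,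
      ← Scheme.Hom.germ_stalkMap_assoc, h]
    simp
  obtain ⟨W, hxW, φ', i, hW, h₁, h₂⟩ :=
    exists_lift_of_finitePresentation (R := Γ(S, U)) (A := Γ(Y, V)) (U := sX ⁻¹ᵁ U) (x := x) hxU
    (Y.presheaf.germ _ y hyV ≫ φ) (sY.appLE U V iVU) (sX.app U)
    (LocallyOfFinitePresentation.finitePresentation_appLE sY hU hV _) this
  refine ⟨W, hxW, W.toSpecΓ ≫ Spec.map φ' ≫ hV.fromSpec, ?_, ?_⟩
  · rw [W.fromSpecStalkOfMem_toSpecΓ_assoc x hxW, ← Spec.map_comp_assoc, ← h₁,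
      Spec.map_comp, Category.assoc, ← IsAffineOpen.fromSpecStalk,
      IsAffineOpen.fromSpecStalk_eq_fromSpecStalk]
  · simp only [Category.assoc]
    rw [← IsAffineOpen.SpecMap_appLE_fromSpec sY hU hV iVU, ← Spec.map_comp_assoc, ← h₂,
      ← Scheme.Hom.appLE, ← hW.isoSpec_hom, IsAffineOpen.SpecMap_appLE_fromSpec sX hU hW i,
      ← Iso.eq_inv_comp, IsAffineOpen.isoSpec_inv_ι_assoc]

/-- morphism form of spreading out -/
lemma spread_out' (sX : X ⟶ S) (sY : Y ⟶ S) [LocallyOfFinitePresentation sY] {x : X}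
    (φ : Spec (X.presheaf.stalk x) ⟶ Y) (h : φ ≫ sY = X.fromSpecStalk x ≫ sX) :
    ∃ (U : X.Opens) (hxU : x ∈ U) (f : U.toScheme ⟶ Y),
      φ = U.fromSpecStalkOfMem x hxU ≫ f ∧ f ≫ sY = U.ι ≫ sX := by
  have := spread_out sX sY ?_ (Scheme.stalkClosedPointTo φ) ?_
  · simpa only [Scheme.Spec_stalkClosedPointTo_fromSpecStalk] using this
  · simpa using congr($h (IsLocalRing.closedPoint _)).symm
  · apply Spec.map_injective
    rw [← cancel_mono (S.fromSpecStalk _)]
    simpa only [Spec.map_comp, Category.assoc, Scheme.SpecMap_stalkMap_fromSpecStalk,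
      Scheme.Spec_stalkClosedPointTo_fromSpecStalk_assoc,
      Scheme.SpecMap_stalkSpecializes_fromSpecStalk]

end Groth.Agent.Birat
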